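import Mathlib

/-!
Hochschild's formula for the `p`-th power of `b • D` in characteristic `p`, in the form: the
coefficients of the expansion of `(b • D)^p` in powers of `D` vanish outside degrees `1` and `p`.
-/

set_option autoImplicit false

namespace Groth.Agent.Misc12.Hochschild

/-- The coefficients of `(b • D) ^ n` in powers of `D`. -/
def q {B : Type*} [CommRing B] (θ : B → B) (b : B) : ℕ → ℕ → B
  | 0, 0 => 1
  | 0, _ + 1 => 0
  | n + 1, 0 => b * θ (q θ b n 0)
  | n + 1, i + 1 => b * (θ (q θ b n (i + 1)) + q θ b n i)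

theorem q_eq_zero {B : Type*} [CommRing B] {θ : B → B} (h0 : θ 0 = 0) (b : B) :
    ∀ {n i : ℕ}, n < i → q θ b n i = 0 := by
  intro n
  induction n with
  | zero =>
    intro i hi
    obtain ⟨j, rfl⟩ : ∃ j, i = j + 1 := ⟨i - 1, by omega⟩
    rfl
  | succ n ih =>
    intro i hi
    obtain ⟨j, rfl⟩ : ∃ j, i = j + 1 := ⟨i - 1, by omega⟩
    show b * (θ (q θ b n (j + 1)) + q θ b n j) = 0
    rw [ih (by omega), ih (show n < j by omega), h0, add_zero, mul_zero]

theorem q_map {B C : Type*} [CommRing B] [CommRing C] (φ : B →+* C) {θ : B → B} {θ' : C → C}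
    (h : ∀ x, φ (θ x) = θ' (φ x)) (b : B) : ∀ n i, φ (q θ b n i) = q θ' (φ b) n i := by
  intro n
  induction n with
  | zero =>
    intro i
    cases i with
    | zero => exact map_one φ
    | succ i => exact map_zero φ
  | succ n ih =>
    intro i
    cases i with
    | zero =>
      show φ (b * θ _) = φ b * θ' _
      rw [map_mul, h, ih]
    | succ i =>
      show φ (b * (θ _ + _)) = φ b * (θ' _ + _)
      rw [map_mul, map_add, h, ih, ih]

section Action

variable {B M : Type*} [CommRing B] [AddCommGroup M] [Module B M] (θ : B → B) (D : M →+ M)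
  (hD : ∀ (c : B) (m : M), D (c • m) = c • D m + θ c • m)

include hD in
theorem iterate_smul_apply (h0 : θ 0 = 0) (b : B) :
    ∀ (n : ℕ) (m : M), (fun x => b • D x)^[n] m =
      ∑ i ∈ Finset.range (n + 1), q θ b n i • (⇑D)^[i] m := by
  intro n
  induction n with
  | zero => intro m; simp [q]
  | succ n ih =>
    intro m
    rw [Function.iterate_succ_apply', ih, map_sum, Finset.smul_sum]
    simp only [hD, ← Function.iterate_succ_apply' (⇑D), smul_add, smul_smul, Finset.sum_add_distrib]
    rw [Finset.sum_range_succ' (fun i => q θ b (n + 1) i • (⇑D)^[i] m)]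
    simp only [q, mul_add, add_smul, Finset.sum_add_distrib]
    rw [Finset.sum_range_succ' (fun x => (b * θ (q θ b n x)) • (⇑D)^[x] m) n,
      Finset.sum_range_succ (fun x => (b * θ (q θ b n (x + 1))) • (⇑D)^[x + 1] m) n,
      q_eq_zero h0 b (Nat.lt_succ_self n), h0, mul_zero, zero_smul, add_zero]
    abel

include hD in
theorem iterate_leibniz :
    ∀ (n : ℕ) (c : B) (m : M), (⇑D)^[n] (c • m) =
      ∑ j ∈ Finset.range (n + 1), (n.choose j : B) • (θ^[j] c • (⇑D)^[n - j] m) := by
  intro n
  induction n with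
  | zero => intro c m; simp
  | succ n ih =>
    intro c m
    rw [Function.iterate_succ_apply, hD, iterate_map_add D, ih, ih]
    rw [Finset.sum_range_succ' (fun j => ((n + 1).choose j : B) • (θ^[j] c • (⇑D)^[n + 1 - j] m))]
    simp only [Nat.choose_succ_succ', Nat.cast_add, add_smul, Finset.sum_add_distrib,
      Nat.choose_zero_right, Nat.cast_one, one_smul, Function.iterate_zero_apply, Nat.sub_zero]
    have e1 : ∀ j, θ^[j] (θ c) = θ^[j + 1] c := fun j => (Function.iterate_succ_apply _ _ _).symm
    have e2 : ∀ j, j ≤ n → (⇑D)^[n - j] (D m) = (⇑D)^[n + 1 - j] m := fun j hj => by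
      rw [← Function.iterate_succ_apply, show (n - j).succ = n + 1 - j by omega]
    rw [Finset.sum_congr rfl (fun j hj => by
        rw [e2 j (Nat.lt_succ_iff.mp (Finset.mem_range.mp hj))] :
      ∀ j ∈ Finset.range (n + 1), (n.choose j : B) • (θ^[j] c • (⇑D)^[n - j] (D m)) =
        (n.choose j : B) • (θ^[j] c • (⇑D)^[n + 1 - j] m))]
    rw [Finset.sum_range_succ' (fun j => (n.choose j : B) • (θ^[j] c • (⇑D)^[n + 1 - j] m)) n,
      Finset.sum_range_succ (fun x => (n.choose (x + 1) : B) • (θ^[x + 1] c • (⇑D)^[n + 1 - (x + 1)] m)) n,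
      Nat.choose_eq_zero_of_lt (Nat.lt_succ_self n), Nat.cast_zero, zero_smul, add_zero]
    simp only [e1, Nat.choose_zero_right, Nat.cast_one, one_smul, Function.iterate_zero_apply,
      Nat.sub_zero, Nat.add_sub_add_right]
    abel

include hD in
/-- In characteristic `p` the `p`-th iterate again obeys the Leibniz rule. -/
theorem iterate_prime_leibniz (p : ℕ) [Fact p.Prime] [CharP B p] (c : B) (m : M) :
    (⇑D)^[p] (c • m) = c • (⇑D)^[p] m + θ^[p] c • m := by
  have hp := (Fact.out : p.Prime)
  rw [iterate_leibniz θ D hD p c m, Finset.sum_range_succ,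
    ← Finset.sum_range_reflect]
  rw [Finset.sum_eq_single_of_mem (p - 1) (Finset.mem_range.mpr (by have := hp.pos; omega))]
  · simp
  · intro j hj hne
    rw [Finset.mem_range] at hj
    rw [(CharP.cast_eq_zero_iff B p _).mpr
      (hp.dvd_choose_self (by omega) (by omega)), zero_smul]

end Action

section Universal

open MvPolynomial

variable (p : ℕ) (σ : Type) [Fact p.Prime]

/-- Chains of variables with the shift derivation. -/
abbrev Uni := MvPolynomial (σ × ℕ) (ZMod p)

noncomputable def shift : Derivation (ZMod p) (Uni p σ) (Uni p σ) :=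
  mkDerivation (ZMod p) fun x => X (x.1, x.2 + 1)

theorem shift_X (s : σ) (j : ℕ) : shift p σ (X (s, j)) = X (s, j + 1) := by
  rw [shift, mkDerivation_X]

theorem shift_iterate_X (s : σ) : ∀ j, (⇑(shift p σ))^[j] (X (s, 0)) = X (s, j) := by
  intro j
  induction j with
  | zero => rfl
  | succ j ih => rw [Function.iterate_succ_apply', ih, shift_X]

variable {p σ}

theorem exists_map {B : Type*} [CommRing B] [CharP B p] {A : Type*} [CommRing A] [Algebra A B]
    (θ : Derivation A B B) (v : σ → B) :
    ∃ φ : Uni p σ →+* B, (∀ s, φ (X (s, 0)) = v s) ∧ ∀ x, φ (shift p σ x) = θ (φ x) := by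
  refine ⟨eval₂Hom (ZMod.castHom dvd_rfl B) fun x => (⇑θ)^[x.2] (v x.1), fun s => ?_, fun x => ?_⟩
  · simp
  · induction x using MvPolynomial.induction_on with
    | C a =>
      obtain ⟨z, rfl⟩ := ZMod.intCast_surjective a
      rw [derivation_C, map_zero, eval₂Hom_C, map_intCast, Derivation.map_intCast]
    | add f g hf hg => simp only [map_add, hf, hg]
    | mul_X f i hf =>
      rw [Derivation.leibniz, map_add, map_mul, Derivation.leibniz, smul_eq_mul, smul_eq_mul,
        map_mul, map_mul, hf, shift_X p σ i.1 i.2, eval₂Hom_X', eval₂Hom_X',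
        Function.iterate_succ_apply']
      rfl

/-- The universal middle coefficients vanish. -/
theorem q_uni_eq_zero (i : ℕ) (hi : i ≠ 1) (hip : i < p) :
    q (⇑(shift p Unit)) (X ((), 0) : Uni p Unit) p i = 0 := by
  classical
  set θ := shift p (Fin 3)
  set b : Uni p (Fin 3) := X (0, 0) with hb
  let D : Uni p (Fin 3) →+ Uni p (Fin 3) := θ.toLinearMap.toAddMonoidHom
  have hD : ∀ (c m : Uni p (Fin 3)), D (c • m) = c • D m + θ c • m := fun c m => by
    show θ (c * m) = c * θ m + θ c * m
    rw [Derivation.leibniz, smul_eq_mul, smul_eq_mul]; ring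
  let E : Uni p (Fin 3) →+ Uni p (Fin 3) := (AddMonoidHom.mulLeft b).comp D
  have hE : ∀ (c m : Uni p (Fin 3)), E (c • m) = c • E m + (b • θ) c • m := fun c m => by
    show b * θ (c * m) = c * (b * θ m) + (b * θ c) * m
    rw [Derivation.leibniz, smul_eq_mul, smul_eq_mul]; ring
  have hexp : ∀ x, (⇑E)^[p] x = ∑ j ∈ Finset.range (p + 1), q (⇑θ) b p j * (⇑θ)^[j] x :=
    fun x => iterate_smul_apply (⇑θ) D hD (map_zero θ) b p x
  -- transport back to the one-chain ring
  let r : Uni p (Fin 3) →+* Uni p Unit := eval₂Hom (MvPolynomial.C) fun x =>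
    if x.1 = 0 then X ((), x.2) else if x.1 = 1 then (if x.2 = 1 then 1 else 0)
      else (if x.2 + 1 = i then 1 else 0)
  let ι : Uni p Unit →+* Uni p (Fin 3) := (rename fun x : Unit × ℕ => ((0 : Fin 3), x.2)).toRingHom
  have hι : ∀ x, ι (shift p Unit x) = θ (ι x) := by
    intro x
    show rename _ (shift p Unit x) = θ (rename _ x)
    induction x using MvPolynomial.induction_on with
    | C a => rw [derivation_C, map_zero, rename_C, derivation_C]
    | add f g hf hg => simp only [map_add, hf, hg]
    | mul_X f j hf =>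
      rw [Derivation.leibniz, map_add, map_mul, Derivation.leibniz, smul_eq_mul, smul_eq_mul,
        map_mul, map_mul, hf, shift_X p Unit j.1 j.2, rename_X, rename_X, shift_X]
      rfl
  have hq : ∀ j, r (q (⇑θ) b p j) = q (⇑(shift p Unit)) (X ((), 0)) p j := by
    intro j
    have h1 := q_map ι hι (X ((), 0)) p j
    rw [show ι (X ((), 0)) = b from rename_X _ _] at h1
    rw [← h1]
    have h2 : r.comp ι = RingHom.id _ := by
      refine MvPolynomial.ringHom_ext (fun a => ?_) (fun x => ?_)
      · simp [r, ι]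
      · simp [r, ι]
    exact RingHom.congr_fun h2 _
  -- the iterate is a derivation
  have hder : ∀ x y, (⇑E)^[p] (x * y) = x * (⇑E)^[p] y + (⇑E)^[p] x * y := fun x y =>
    iterate_prime_leibniz (⇑(b • θ)) E hE p x y
  rcases Nat.eq_zero_or_pos i with rfl | hpos
  · have h1 := hder 1 1
    rw [mul_one, one_mul, left_eq_add] at h1
    rw [hexp, Finset.sum_range_succ'] at h1
    simp only [Function.iterate_zero_apply, mul_one] at h1
    have hz : ∀ j, (⇑θ)^[j + 1] (1 : Uni p (Fin 3)) = 0 := fun j => by
      rw [Function.iterate_succ_apply, Derivation.map_one_eq_zero]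
      exact Function.iterate_fixed (map_zero θ) j
    simp only [hz, mul_zero, Finset.sum_const_zero, zero_add] at h1
    rw [← hq 0, h1, map_zero]
  have h2 := congrArg r (hder (X (1, 0)) (X (2, 0)))
  simp only [hexp, map_add, map_mul, map_sum, shift_iterate_X, θ] at h2
  have hj : ∀ j, r ((⇑(shift p (Fin 3)))^[j] (X (1, 0) * X (2, 0))) =
      if j = i then (j : Uni p Unit) else 0 := by
    intro j
    have hD' : ∀ (c m : Uni p (Fin 3)), D (c • m) = c • D m + θ c • m := hD
    have h3 : (⇑(shift p (Fin 3)))^[j] (X (1, 0) * X (2, 0)) =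
        ∑ l ∈ Finset.range (j + 1),
          (j.choose l : Uni p (Fin 3)) * (X (1, l) * X (2, j - l)) := by
      have h4 := iterate_leibniz (⇑θ) D hD' j (X (1, 0) : Uni p (Fin 3)) (X (2, 0))
      refine h4.trans (Finset.sum_congr rfl fun l _ => ?_)
      show _ • ((⇑θ)^[l] (X (1, 0)) • (⇑θ)^[j - l] (X (2, 0))) = _
      simp only [θ, shift_iterate_X, smul_eq_mul]
    rw [h3, map_sum]
    simp only [map_mul, map_natCast, r, eval₂Hom_X', Fin.reduceEq, if_false, if_true]
    rw [Finset.sum_eq_single 1]
    · by_cases hji : j = i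
      · subst hji
        rw [if_pos rfl, if_pos rfl, if_pos (by omega), Nat.choose_one_right, one_mul, mul_one]
      · rw [if_neg hji]
        rcases Nat.eq_zero_or_pos j with h0 | h0
        · subst h0; simp
        · rw [if_pos rfl, if_neg (by omega), mul_zero, mul_zero]
    · intro l _ hl
      rw [if_neg hl, zero_mul, mul_zero]
    · intro h1
      have : j = 0 := by simpa using h1
      subst this; simp
  simp only [θ] at hq hj
  simp only [hq, hj] at h2
  have hX1 : r (X ((1 : Fin 3), 0)) = 0 := by simp [r]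
  have hX2 : r (X ((2 : Fin 3), 0)) = 0 := by
    have : ¬ (0 + 1 = i) := fun h => hi h.symm
    simp [r, Fin.reduceEq, this]
  rw [hX1, hX2, zero_mul, mul_zero, add_zero] at h2
  simp only [mul_ite, mul_zero, Finset.sum_ite_eq', Finset.mem_range] at h2
  rw [if_pos (by omega)] at h2
  refine (mul_eq_zero.mp h2).resolve_right ?_
  intro h
  have hdvd := (CharP.cast_eq_zero_iff (Uni p Unit) p i).mp h
  have := Nat.le_of_dvd hpos hdvd
  omega

/-- **Hochschild**: the middle coefficients vanish in every ring of characteristic `p`. -/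
theorem q_mid {B : Type*} [CommRing B] [CharP B p] {A : Type*} [CommRing A] [Algebra A B]
    (θ : Derivation A B B) (b : B) (i : ℕ) (hi : i ≠ 1) (hip : i < p) : q (⇑θ) b p i = 0 := by
  obtain ⟨φ, h1, h2⟩ := exists_map (p := p) θ (fun _ : Unit => b)
  rw [← h1 (), ← q_map φ h2, q_uni_eq_zero i hi hip, map_zero]

end Universal

end Groth.Agent.Misc12.Hochschild
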